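import Groth.Prelude.Def_Curv2
import Mathlib.RingTheory.Ideal.MinimalPrime.Localization
import Mathlib.RingTheory.SimpleModule.Basic
import Mathlib.RingTheory.Nilpotent.Lemmas
import Mathlib.RingTheory.Localization.Ideal

/-!
# Two radical ideals with zero intersection in a ring whose delta invariant is at most one
-/

set_option autoImplicit false
set_option linter.style.haveILetI false
set_option linter.unusedSectionVars false
set_option linter.deprecated false

universe u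

namespace Groth.Agent.H10.StableTail.Alg

/-- If `δ(R) = 1` and `pq = 0` with `p + q` regular, the maximal ideal lies in `Ann p + Ann q`. -/
theorem exists_split {R : Type u} [CommRing R] [IsLocalRing R] (hδ : Curv2.deltaInv R = 1)
    {p q : R} (hpq : p * q = 0) (hx : p + q ∈ nonZeroDivisors R) {r : R}
    (hr : r ∈ IsLocalRing.maximalIdeal R) :
    ∃ s : R, s * p = 0 ∧ (r - s) * q = 0 := by
  let B := integralClosure R (FractionRing R)
  let M := ↥B ⧸ LinearMap.range (Algebra.linearMap R ↥B)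
  have hs : IsSimpleModule R M := Module.length_eq_one_iff.mp hδ
  have hm : Module.annihilator R M = IsLocalRing.maximalIdeal R :=
    IsLocalRing.eq_maximalIdeal (IsSimpleModule.annihilator_isMaximal (R := R) (M := M))
  let u : (nonZeroDivisors R) := ⟨p + q, hx⟩
  let e : FractionRing R := IsLocalization.mk' _ q u
  have he : e * algebraMap R _ (p + q) = algebraMap R _ q := IsLocalization.mk'_spec _ q u
  have he2 : e * e = e := by
    refine (IsLocalization.map_units (FractionRing R) u).mul_right_cancel ?_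
    have h1 : e * e * algebraMap R _ (p + q) * algebraMap R _ (p + q) =
        e * algebraMap R _ (p + q) * algebraMap R _ (p + q) := by
      rw [mul_assoc e e, he, mul_right_comm, he, ← map_mul, ← map_mul, mul_add, mul_comm q p, hpq,
        zero_add]
    exact (IsLocalization.map_units (FractionRing R) u).mul_right_cancel h1
  have hint : IsIntegral R e := ⟨Polynomial.X ^ 2 - Polynomial.X,
    Polynomial.monic_X_pow_sub (by simp), by simp [Polynomial.eval₂_sub, pow_two, he2]⟩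
  have hann : r • (Submodule.Quotient.mk (⟨e, hint⟩ : B) : M) = 0 :=
    Module.mem_annihilator.1 (hm ▸ hr) _
  rw [← Submodule.Quotient.mk_smul, Submodule.Quotient.mk_eq_zero] at hann
  obtain ⟨s, hs'⟩ := hann
  have hse : algebraMap R (FractionRing R) s = algebraMap R _ r * e := by
    have := congrArg Subtype.val hs'
    simpa [Algebra.smul_def] using this
  have hsx : s * (p + q) = r * q := IsFractionRing.injective R (FractionRing R) (by
    rw [map_mul, map_mul, hse, mul_assoc, he])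
  refine ⟨s, (mem_nonZeroDivisors_iff_right.1 hx _ (?_)), (mem_nonZeroDivisors_iff_right.1 hx _ (?_))⟩
  · rw [mul_assoc, mul_comm p, ← mul_assoc, hsx, mul_assoc, mul_comm q, hpq, mul_zero]
  · rw [mul_assoc, mul_comm q, ← mul_assoc, sub_mul, hsx, mul_add, add_sub_cancel_right, mul_assoc, hpq, mul_zero]

variable {A : Type u} [CommRing A] [IsNoetherianRing A] [_root_.IsReduced A] {P Q : Ideal A}

theorem eq_zero_of_forall {a : A} (h : ∀ 𝔭 ∈ minimalPrimes A, a ∈ 𝔭) : a = 0 := by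
  have : a ∈ sInf (minimalPrimes A) := Submodule.mem_sInf.2 h
  rw [minimalPrimes, Ideal.sInf_minimalPrimes] at this
  exact IsReduced.eq_zero _ this

theorem exists_pick (hno : ∀ 𝔭 ∈ minimalPrimes A, ¬ P ⊔ Q ≤ 𝔭) :
    ∃ p ∈ P, ∀ 𝔭 ∈ minimalPrimes A, Q ≤ 𝔭 → p ∉ 𝔭 := by
  classical
  by_contra hcon
  push Not at hcon
  have hfin : {𝔭 | 𝔭 ∈ minimalPrimes A ∧ Q ≤ 𝔭}.Finite :=
    (minimalPrimes.finite_of_isNoetherianRing A).subset fun _ h => h.1
  have hsub : (P : Set A) ⊆ ⋃ 𝔭 ∈ (↑hfin.toFinset : Set (Ideal A)), (𝔭 : Set A) := fun p hp => by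
    obtain ⟨𝔭, h1, h2, h3⟩ := hcon p hp
    exact Set.mem_iUnion₂.2 ⟨𝔭, by simpa using ⟨h1, h2⟩, h3⟩
  obtain ⟨𝔭, h𝔭, hle⟩ := (Ideal.subset_union_prime (f := id) ⊥ ⊥ fun i hi _ _ =>
    Ideal.minimalPrimes_isPrime ((Set.Finite.mem_toFinset _).1 hi).1).1 hsub
  obtain ⟨h1, h2⟩ := (Set.Finite.mem_toFinset _).1 h𝔭
  exact hno 𝔭 h1 (sup_le hle h2)

/-- The sum of the ideals of the two parts is radical, given the delta invariant at the primes. -/
theorem radical_sup_le (hPQ : ∀ p ∈ P, ∀ q ∈ Q, p * q = 0)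
    (hno : ∀ 𝔭 ∈ minimalPrimes A, ¬ P ⊔ Q ≤ 𝔭)
    (hP : ∀ a, (∀ q ∈ Q, a * q = 0) → a ∈ P) (hQ : ∀ a, (∀ p ∈ P, a * p = 0) → a ∈ Q)
    (hloc : ∀ m : Ideal A, ∀ hm : m.IsMaximal, P ⊔ Q ≤ m →
      ∃ (R : Type u) (_ : CommRing R) (_ : Algebra A R) (_ : IsLocalRing R),
        haveI := hm.isPrime
        IsLocalization.AtPrime R m ∧ (IsDomain R ∨ Curv2.deltaInv R = 1)) :
    (P ⊔ Q).radical ≤ P ⊔ Q := by
  intro r hr
  obtain ⟨p, hp, hp'⟩ := exists_pick hno
  obtain ⟨q, hq, hq'⟩ := exists_pick (P := Q) (Q := P) (fun 𝔭 h => by rw [sup_comm]; exact hno 𝔭 h)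
  have hor : ∀ 𝔭 ∈ minimalPrimes A, P ≤ 𝔭 ∨ Q ≤ 𝔭 := fun 𝔭 h => by
    haveI := Ideal.minimalPrimes_isPrime h
    by_contra hc
    push Not at hc
    obtain ⟨a, ha, ha'⟩ := SetLike.not_le_iff_exists.1 hc.1
    obtain ⟨b, hb, hb'⟩ := SetLike.not_le_iff_exists.1 hc.2
    exact (Ideal.IsPrime.mem_or_mem inferInstance (show a * b ∈ 𝔭 by rw [hPQ a ha b hb]; exact 𝔭.zero_mem)).elim ha' hb'
  have hAp : ∀ a, a * p = 0 → a ∈ Q := fun a ha => hQ a fun p' hp'' => eq_zero_of_forall fun 𝔭 h => by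
    haveI := Ideal.minimalPrimes_isPrime h
    rcases hor 𝔭 h with h' | h'
    · exact 𝔭.mul_mem_left _ (h' hp'')
    · exact 𝔭.mul_mem_right _ ((Ideal.IsPrime.mem_or_mem inferInstance
        (show a * p ∈ 𝔭 by rw [ha]; exact 𝔭.zero_mem)).resolve_right (hp' 𝔭 h h'))
  have hAq : ∀ a, a * q = 0 → a ∈ P := fun a ha => hP a fun q' hq'' => eq_zero_of_forall fun 𝔭 h => by
    haveI := Ideal.minimalPrimes_isPrime h
    rcases hor 𝔭 h with h' | h'
    · exact 𝔭.mul_mem_right _ ((Ideal.IsPrime.mem_or_mem inferInstance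
        (show a * q ∈ 𝔭 by rw [ha]; exact 𝔭.zero_mem)).resolve_right (hq' 𝔭 h h'))
    · exact 𝔭.mul_mem_left _ (h' hq'')
  have hx : p + q ∈ nonZeroDivisors A := mem_nonZeroDivisors_iff_right.2 fun a ha =>
    eq_zero_of_forall fun 𝔭 h => by
      haveI := Ideal.minimalPrimes_isPrime h
      refine (Ideal.IsPrime.mem_or_mem inferInstance (show a * (p + q) ∈ 𝔭 by rw [ha]; exact 𝔭.zero_mem)).resolve_right
        fun hmem => ?_
      rcases hor 𝔭 h with h' | h'
      · exact hq' 𝔭 h h' (by simpa using 𝔭.sub_mem hmem (h' hp))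
      · exact hp' 𝔭 h h' (by simpa using 𝔭.sub_mem hmem (h' hq))
  by_contra hrJ
  obtain ⟨m, hm, hle⟩ := Ideal.exists_le_maximal ((P ⊔ Q).colon {r}) (fun h => hrJ (by
    have h1 : (1 : A) ∈ (P ⊔ Q).colon {r} := h ▸ trivial
    simpa [Submodule.mem_colon_singleton] using h1))
  have hout : ∀ t : A, t * r ∈ P ⊔ Q → t ∈ m := fun t ht =>
    hle (Submodule.mem_colon_singleton.2 (by simpa using ht))
  have hJm : P ⊔ Q ≤ m := fun t ht => hout t (Ideal.mul_mem_right _ _ ht)
  haveI := hm.isPrime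
  have hrm : r ∈ m := (Ideal.radical_mono hJm).trans_eq (Ideal.IsPrime.radical inferInstance) hr
  obtain ⟨R, _, _, _, hR, hcase⟩ := hloc m hm hJm
  haveI := hR
  let f := algebraMap A R
  have hxR : f (p + q) ∈ nonZeroDivisors R :=
    IsLocalization.map_nonZeroDivisors_le m.primeCompl R (Submonoid.mem_map_of_mem f hx)
  have hpqR : f p * f q = 0 := by rw [← map_mul, hPQ p hp q hq, map_zero]
  -- an element killed by `f p` comes from `Q`
  have key : ∀ (p₀ : A) (I : Ideal A), (∀ a, a * p₀ = 0 → a ∈ I) → ∀ s : R, s * f p₀ = 0 →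
      s ∈ I.map f := by
    intro p₀ I hI s hs
    obtain ⟨⟨a, t⟩, hat⟩ := IsLocalization.surj m.primeCompl s
    have h0 : f (a * p₀) = 0 := by rw [map_mul, ← hat, mul_right_comm, hs, zero_mul]
    obtain ⟨c, hc⟩ := (IsLocalization.map_eq_zero_iff m.primeCompl R _).1 h0
    refine (IsLocalization.mem_map_algebraMap_iff m.primeCompl R).2
      ⟨(⟨c * a, hI _ (by rw [mul_assoc]; exact hc)⟩, c * t), ?_⟩
    simp only [Submonoid.coe_mul, map_mul]
    rw [← hat]; ring
  obtain ⟨s, hs1, hs2⟩ : ∃ s : R, s * f p = 0 ∧ (f r - s) * f q = 0 := by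
    rcases hcase with hdom | hδ
    · haveI := hdom
      rcases mul_eq_zero.1 hpqR with h0 | h0
      · exact ⟨f r, by rw [h0, mul_zero], by rw [sub_self, zero_mul]⟩
      · exact ⟨0, zero_mul _, by rw [h0, mul_zero]⟩
    · refine exists_split hδ hpqR (by rwa [← map_add]) ?_
      exact (IsLocalization.AtPrime.to_map_mem_maximal_iff R m r).2 hrm
  have hmem : f r ∈ (P ⊔ Q).map f := by
    rw [Ideal.map_sup, show f r = (f r - s) + s by ring]
    exact Submodule.add_mem_sup (key q P hAq _ hs2) (key p Q hAp _ hs1)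
  obtain ⟨⟨⟨a, ha⟩, t⟩, hat⟩ := (IsLocalization.mem_map_algebraMap_iff m.primeCompl R).1 hmem
  rw [← map_mul] at hat
  obtain ⟨c, hc⟩ := (IsLocalization.eq_iff_exists m.primeCompl R).1 hat
  have : (c : A) * t * r ∈ P ⊔ Q := by
    rw [mul_assoc, mul_comm (t : A), hc]; exact Ideal.mul_mem_left _ _ ha
  exact (c * t).2 (hout _ this)

end Groth.Agent.H10.StableTail.Alg
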