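import Groth.Agent.H10.StableTail.Geom
import Groth.Agent.Lib.Curves.DegreeOne
import Groth.Agent.Lib.Jets27.Colength
import Groth.Agent.Lib.TFNodal.TwistEmbed
import Groth.Agent.Lib.Snapper.Twist
import Groth.Agent.S14512
import Groth.Agent.S7834

/-!
# Rational tails, bridges and smooth rational components
-/

set_option autoImplicit false
set_option linter.style.haveILetI false
set_option linter.unusedSectionVars false

universe u

open CategoryTheory CategoryTheory.Limits AlgebraicGeometry TopologicalSpace

noncomputable section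

namespace Groth.Agent.H10.StableTail.Comp

open Groth.Agent.Lib Groth.Agent.H25

variable {k : Type u} [Field k] [IsAlgClosed k] {X : Scheme.{u}} [X.Over (Spec (CommRingCat.of k))]
  [IsProper (X ↘ Spec (CommRingCat.of k))] {C : Set X}

/-- The reduced ideal of a component. -/
abbrev IC (hC : C ∈ irreducibleComponents (X : Type u)) : X.IdealSheafData :=
  Scheme.IdealSheafData.vanishingIdeal ⟨C, isClosed_of_mem_irreducibleComponents C hC⟩

/-- The ideal of the closure of the complement. -/
abbrev IX (hC : C ∈ irreducibleComponents (X : Type u)) : X.IdealSheafData :=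
  (Scheme.Opens.ι (⟨Cᶜ, (isClosed_of_mem_irreducibleComponents C hC).isOpen_compl⟩ : X.Opens)).ker

instance overSub (I : X.IdealSheafData) : I.subscheme.Over (Spec (CommRingCat.of k)) :=
  ⟨I.subschemeι ≫ (X ↘ Spec (CommRingCat.of k))⟩

instance isProperSub (I : X.IdealSheafData) :
    IsProper (I.subscheme ↘ Spec (CommRingCat.of k)) :=
  inferInstanceAs (IsProper (I.subschemeι ≫ (X ↘ Spec (CommRingCat.of k))))

instance finiteHH (Z : Scheme.{u}) [Z.Over (Spec (CommRingCat.of k))]
    [IsProper (Z ↘ Spec (CommRingCat.of k))] (n : ℕ) :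
    FiniteDimensional k (Coh.HH Z (Coh.structureModule Z) n) :=
  Snapper.Finite.cohFinite k Z _ (Snapper.Twist.isCoh_structureModule Z) n

theorem integral_comp (hC : C ∈ irreducibleComponents (X : Type u)) : IsIntegral (IC hC).subscheme := by
  haveI : IsReduced (IC hC).subscheme := H75.RedSub.isReduced_vanishingIdeal _
  haveI : IrreducibleSpace (IC hC).subscheme := by
    have hr : Set.range (IC hC).subschemeι = C := by
      rw [Scheme.IdealSheafData.range_subschemeι, Scheme.IdealSheafData.coe_support_vanishingIdeal]
      rfl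
    haveI : IrreducibleSpace C := Subtype.irreducibleSpace hC.1
    let e := (IC hC).subschemeι.isClosedEmbedding.isEmbedding.toHomeomorph.trans (Homeomorph.setCongr hr)
    exact Function.Surjective.irreducibleSpace e.symm.continuous e.symm.surjective
  exact isIntegral_of_irreducibleSpace_of_isReduced _

theorem range_comp (hC : C ∈ irreducibleComponents (X : Type u)) :
    Set.range (IC hC).subschemeι = C := by
  rw [Scheme.IdealSheafData.range_subschemeι, Scheme.IdealSheafData.coe_support_vanishingIdeal]
  rfl

theorem dim_comp_le (hdim : topologicalKrullDim X = 1) (hC : C ∈ irreducibleComponents (X : Type u)) :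
    topologicalKrullDim (IC hC).subscheme ≤ 1 :=
  hdim ▸ (IC hC).subschemeι.isClosedEmbedding.isInducing.topologicalKrullDim_le

variable (k) in
include k in
theorem isClosed_meet (hdim : topologicalKrullDim X = 1) (hC : C ∈ irreducibleComponents (X : Type u))
    {p : X} (hp : p ∈ C ∩ closure Cᶜ) : IsClosed ({p} : Set X) := by
  haveI := Curves.GlobalSections.isNoetherian_of_proper k X
  haveI := integral_comp hC
  haveI : IsLocallyNoetherian (IC hC).subscheme := LocallyOfFiniteType.isLocallyNoetherian (IC hC).subschemeι
  obtain ⟨c, rfl⟩ := (range_comp hC).ge hp.1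
  rw [← Set.image_singleton]
  refine (IC hC).subschemeι.isClosedEmbedding.isClosedMap _
    (CDivInt.isClosed_singleton_of_ne_genericPoint (dim_comp_le hdim hC) fun h => ?_)
  refine Geom.generic_notMem hC ?_
  have h1 : IsGenericPoint ((IC hC).subschemeι c) C := by
    have := (genericPoint_spec (IC hC).subscheme).image (IC hC).subschemeι.continuous
    rwa [Set.image_univ, range_comp hC, (isClosed_of_mem_irreducibleComponents C hC).closure_eq, ← h] at this
  rw [(hC.1.isGenericPoint_genericPoint (isClosed_of_mem_irreducibleComponents C hC)).eq h1]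
  exact hp.2

variable (k) in
include k in
theorem finite_meet (hdim : topologicalKrullDim X = 1) (hC : C ∈ irreducibleComponents (X : Type u)) :
    (C ∩ closure Cᶜ).Finite := by
  haveI := Curves.GlobalSections.noetherianSpace_of_proper k X
  obtain ⟨S, hSf, hSc, hSi, hS⟩ := NoetherianSpace.exists_finite_set_isClosed_irreducible
    ((isClosed_of_mem_irreducibleComponents C hC).inter (isClosed_closure (s := Cᶜ)))
  rw [hS]
  refine hSf.sUnion fun T hT => ?_
  have hTg := (hSi T hT).isGenericPoint_genericPoint (hSc T hT)
  rw [← hTg.def, (isClosed_meet k hdim hC (hS.ge ⟨T, hT, hTg.mem⟩)).closure_eq]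
  exact Set.finite_singleton _

/-- Functions on a finite reduced subscheme count its points. -/
theorem finrank_h0_finite {Z : Closeds X} (hfin : (Z : Set X).Finite)
    (hcl : ∀ p ∈ (Z : Set X), IsClosed ({p} : Set X)) :
    Module.finrank k (Coh.HH X (ClSub.quotMod (Scheme.IdealSheafData.vanishingIdeal Z)) 0) =
      (Z : Set X).ncard := by
  let I := Scheme.IdealSheafData.vanishingIdeal Z
  have hr : Set.range I.subschemeι = (Z : Set X) := by
    rw [Scheme.IdealSheafData.range_subschemeι, Scheme.IdealSheafData.coe_support_vanishingIdeal]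
  haveI : IsReduced I.subscheme := H75.RedSub.isReduced_vanishingIdeal _
  haveI : Finite I.subscheme :=
    haveI := (hr ▸ hfin : (Set.range I.subschemeι).Finite).to_subtype
    Finite.of_injective (Set.rangeFactorization I.subschemeι)
      fun a b h => I.subschemeι.isClosedEmbedding.injective (congrArg Subtype.val h :)
  haveI : T1Space I.subscheme := ⟨fun y => by
    have := (hcl _ (hr.le ⟨y, rfl⟩)).preimage I.subschemeι.continuous
    rwa [← Set.image_singleton, Set.preimage_image_eq _ I.subschemeι.isClosedEmbedding.injective] at this⟩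
  haveI := Curves.GlobalSections.noetherianSpace_of_proper k I.subscheme
  haveI := TensorMod.QCohInv.isQCoh_structureModule I.subscheme
  show Module.finrank k (Coh.HH X ((Coh.push I.subschemeι).obj (Coh.structureModule I.subscheme)) 0) = _
  rw [SurfInt.Push.finrank_push I.subschemeι rfl, Curves.H0Components.finrank_h0_eq_card]
  rw [Nat.card_congr (Equiv.ofBijective (ConnectedComponents.mk : I.subscheme → _)
    ⟨fun a b h => ?_, ConnectedComponents.surjective_coe⟩).symm]
  · rw [← Set.ncard_univ, ← Set.ncard_image_of_injective _ I.subschemeι.isClosedEmbedding.injective,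
      Set.image_univ, hr]
  · have := ConnectedComponents.coe_eq_coe.1 h
    rwa [connectedComponent_eq_singleton, connectedComponent_eq_singleton, Set.singleton_eq_singleton_iff] at this

theorem finrank_h0_comp (hC : C ∈ irreducibleComponents (X : Type u)) :
    Module.finrank k (Coh.HH X (ClSub.quotMod (IC hC)) 0) = 1 := by
  haveI := integral_comp hC
  haveI := TensorMod.QCohInv.isQCoh_structureModule (IC hC).subscheme
  show Module.finrank k (Coh.HH X ((Coh.push (IC hC).subschemeι).obj (Coh.structureModule (IC hC).subscheme)) 0) = _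
  rw [SurfInt.Push.finrank_push (IC hC).subschemeι rfl]
  exact Curves.GlobalSections.finrank_h0_structure k (IC hC).subscheme

variable (k) in
include k in
/-- Global functions of a component map bijectively to the residue field at a closed point. -/
theorem evaluation_bijective (hC : C ∈ irreducibleComponents (X : Type u)) (c : (IC hC).subscheme)
    (hc : IsClosed ({c} : Set (IC hC).subscheme)) :
    Function.Bijective ((IC hC).subscheme.evaluation ⊤ c trivial) := by
  haveI := integral_comp hC
  let Z := (IC hC).subscheme
  letI : Algebra k Γ(Z, ⊤) := RingHom.toAlgebra (S := Γ(Z, ⊤)) (Coh.toGlobal (Z ↘ Spec (CommRingCat.of k)))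
  haveI : Module.Finite k Γ(Z, ⊤) := Curves.GlobalSections.finite_toGlobal k Z
  haveI : IsDomain Γ(Z, ⊤) := inferInstance
  have hb : Function.Bijective (Coh.toGlobal (Z ↘ Spec (CommRingCat.of k))) :=
    IsAlgClosed.algebraMap_bijective_of_isIntegral (k := k) (K := Γ(Z, ⊤))
  have hs : Function.Surjective (Curv2.resMap k Z c) := Jets27.Colength.surjective_resMap k hc
  have hi : Function.Injective (Curv2.resMap k Z c) := (Curv2.resMap k Z c).injective
  have h : Function.Bijective ((Z.evaluation ⊤ c trivial).hom ∘ Coh.toGlobal (Z ↘ Spec (CommRingCat.of k))) :=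
    ⟨hi, hs⟩
  exact (Function.Bijective.of_comp_iff _ hb).1 h

variable (k) in
include k in
theorem dim_comp [ConnectedSpace X] (hdim : topologicalKrullDim X = 1)
    (hC : C ∈ irreducibleComponents (X : Type u)) : topologicalKrullDim (IC hC).subscheme = 1 := by
  haveI := Curves.GlobalSections.noetherianSpace_of_proper k X
  refine le_antisymm (dim_comp_le hdim hC) ?_
  rw [topologicalKrullDim, Order.one_le_krullDim_iff]
  by_contra hcon
  push Not at hcon
  haveI := integral_comp hC
  let Z := (IC hC).subscheme
  let g : IrreducibleCloseds Z := ⟨Set.univ, IrreducibleSpace.isIrreducible_univ _, isClosed_univ⟩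
  have hall : ∀ c : Z, closure {c} = (Set.univ : Set Z) := fun c => by
    let a : IrreducibleCloseds Z := ⟨closure {c}, isIrreducible_singleton.closure, isClosed_closure⟩
    have hag : a ≤ g := Set.subset_univ _
    exact congrArg SetLike.coe (hag.eq_or_lt.resolve_right (hcon a g))
  have hsub : Subsingleton Z := ⟨fun a b =>
    ((inseparable_iff_closure_eq.mpr ((hall a).trans (hall b).symm)).eq)⟩
  have hη := hC.1.isGenericPoint_genericPoint (isClosed_of_mem_irreducibleComponents C hC)
  have hCs : C = {hC.1.genericPoint} := by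
    refine subset_antisymm (fun p hp => ?_) (Set.singleton_subset_iff.2 hη.mem)
    obtain ⟨a, rfl⟩ := (range_comp hC).ge hp
    obtain ⟨b, hb⟩ := (range_comp hC).ge hη.mem
    rw [Set.mem_singleton_iff, ← hb, Subsingleton.elim a b]
  have hemp : C ∩ closure Cᶜ = ∅ := Set.eq_empty_of_forall_notMem fun p ⟨hp, hp'⟩ => by
    have : p = hC.1.genericPoint := by simpa using hCs.le hp
    exact Geom.generic_notMem hC (this ▸ hp')
  refine TFNodal.TwistEmbed.no_isolated hdim _ (hCs ▸ isClosed_of_mem_irreducibleComponents C hC) ?_
  rw [← hCs, ← isClosed_compl_iff]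
  exact closure_subset_iff_isClosed.1 fun p hp hp' => (Set.mem_empty_iff_false p).1 (hemp ▸ ⟨hp', hp⟩)

theorem exists_line [ConnectedSpace X] (hdim : topologicalKrullDim X = 1)
    (hC : C ∈ irreducibleComponents (X : Type u))
    (h1 : Subsingleton (Coh.HH (IC hC).subscheme (Coh.structureModule (IC hC).subscheme) 1)) :
    CurvSt.IsSmRatComp k X (X ↘ Spec (CommRingCat.of k)) C := by
  haveI := integral_comp hC
  let Z := (IC hC).subscheme
  have hg : Curv2.genus k Z = 0 := by
    haveI := h1
    exact Module.finrank_zero_of_subsingleton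
  haveI := Groth.Agent.S14512.result k Z (dim_comp k hdim hC) hg
  haveI : GeometricallyConnected (Z ↘ Spec (CommRingCat.of k)) :=
    Groth.Agent.H34.Stein.geometricallyConnected_of_isSepClosed _
  haveI : GeometricallyIntegral (Z ↘ Spec (CommRingCat.of k)) :=
    Groth.Agent.H2.Rigid.GeomIrred.geometricallyIntegral_of_smooth _
  obtain ⟨e, he⟩ := Groth.Agent.S7834.result k Z (dim_comp k hdim hC) hg
  refine ⟨hC, e.inv ≫ (IC hC).subschemeι, inferInstance, ?_, ?_⟩
  · rw [Category.assoc, Iso.inv_comp_eq]
    exact he.symm
  · rw [Scheme.Hom.comp_base, TopCat.coe_comp, Set.range_comp]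
    have : Function.Surjective e.inv := fun z => ⟨e.hom z, by rw [← Scheme.Hom.comp_apply, e.hom_inv_id]; rfl⟩
    rw [Set.range_eq_univ.2 this, Set.image_univ, range_comp hC]

theorem h1_of_line [ConnectedSpace X] (hC : C ∈ irreducibleComponents (X : Type u))
    (h : CurvSt.IsSmRatComp k X (X ↘ Spec (CommRingCat.of k)) C) :
    Subsingleton (Coh.HH (IC hC).subscheme (Coh.structureModule (IC hC).subscheme) 1) := by
  obtain ⟨-, e, hecl, he, her⟩ := h
  letI : (CohB1.ProjSpace 1 k).Over (Spec (CommRingCat.of k)) := ⟨CohB1.ProjSpace.toSpec 1 k⟩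
  haveI := hecl
  haveI : IsReduced (CohB1.ProjSpace 1 k) := by
    infer_instance
  have hker : e.ker = IC hC := by
    rw [H75.RedKer.ker_eq_vanishingIdeal]
    congr 1
    exact Closeds.ext (by
      show closure (Set.range e) = C
      rw [show Set.range e = C from her, (isClosed_of_mem_irreducibleComponents C hC).closure_eq])
  have key : ∀ I : X.IdealSheafData, e.ker = I →
      ∃ φ : I.subscheme ≅ CohB1.ProjSpace 1 k,
        φ.hom ≫ CohB1.ProjSpace.toSpec 1 k = I.subschemeι ≫ (X ↘ Spec (CommRingCat.of k)) := by
    rintro I rfl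
    refine ⟨(asIso e.toImage).symm, ?_⟩
    rw [← he, Iso.symm_hom, asIso_inv, IsIso.inv_comp_eq, ← Category.assoc]
    exact congrArg (· ≫ _) e.toImage_imageι.symm
  obtain ⟨φ, hφ⟩ := key _ hker
  have h2 : Module.finrank k (Coh.HH (IC hC).subscheme (Coh.structureModule (IC hC).subscheme) 1) = 0 :=
    (Curves.DegreeOne.h0_genus_of_iso_line (k := k) (X := (IC hC).subscheme) (e := φ) hφ).2
  exact Module.finrank_zero_iff.mp h2

end Groth.Agent.H10.StableTail.Comp
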