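import Groth.Agent.H10.StableTail.Alg
import Groth.Agent.H25.Node.AtWorst
import Groth.Agent.H75.RedSub
import Groth.Agent.Lib.Curves.NormGenus
import Groth.Agent.Lib.Curves.H0Components
import Groth.Agent.Lib.SurfInt.Push
import Groth.Agent.Lib.Snapper.Finite
import Groth.Agent.Lib.CDivInt.Dim1
import Groth.Prelude.Def_StCurv

/-!
# The intersection of a component of a nodal curve with the closure of its complement
-/

set_option autoImplicit false
set_option linter.style.haveILetI false
set_option linter.unusedSectionVars false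

universe u

open CategoryTheory CategoryTheory.Limits AlgebraicGeometry TopologicalSpace

noncomputable section

namespace Groth.Agent.H10.StableTail.Geom

open Groth.Agent.Lib Groth.Agent.H25

variable {k : Type u} [Field k] {X : Scheme.{u}} [X.Over (Spec (CommRingCat.of k))]
  [IsProper (X ↘ Spec (CommRingCat.of k))] {C : Set X}

/-- The ideal of the closure of the complement of a component. -/
theorem ker_compl [IsReduced X] (hC : C ∈ irreducibleComponents (X : Type u)) :
    (Scheme.Opens.ι (⟨Cᶜ, (isClosed_of_mem_irreducibleComponents C hC).isOpen_compl⟩ : X.Opens)).ker =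
      Scheme.IdealSheafData.vanishingIdeal ⟨closure Cᶜ, isClosed_closure⟩ := by
  rw [H75.RedKer.ker_eq_vanishingIdeal]
  congr 1
  exact Closeds.ext (congrArg closure (Scheme.Opens.range_ι _))

/-- The points on other components are the meet with the closure of the complement. -/
theorem meetPts_eq [NoetherianSpace X] (hC : C ∈ irreducibleComponents (X : Type u)) :
    CurvSt.meetPts X C = C ∩ closure Cᶜ := by
  have hfin : (irreducibleComponents (X : Type u)).Finite :=
    NoetherianSpace.finite_irreducibleComponents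
  ext p
  refine ⟨fun ⟨hp, E, hE, hne, hpE⟩ => ⟨hp, ?_⟩, fun ⟨hp, hp'⟩ => ⟨hp, ?_⟩⟩
  · have hnon : (E ∩ Cᶜ).Nonempty := by
      by_contra h
      have hEC : E ⊆ C := fun z hz => by_contra fun hzC => h ⟨z, hz, hzC⟩
      exact hne (subset_antisymm hEC (hE.2 hC.1 hEC))
    exact closure_mono Set.inter_subset_right (subset_closure_inter_of_isPreirreducible_of_isOpen
      hE.1.isPreirreducible (isClosed_of_mem_irreducibleComponents C hC).isOpen_compl hnon hpE)
  · have hsub : closure Cᶜ ⊆ ⋃ E ∈ {E | E ∈ irreducibleComponents (X : Type u) ∧ E ≠ C}, E := by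
      refine closure_minimal (fun z hz => ?_) ((hfin.subset fun _ h => h.1).isClosed_biUnion fun E hE =>
        isClosed_of_mem_irreducibleComponents E hE.1)
      exact Set.mem_biUnion ⟨irreducibleComponent_mem_irreducibleComponents z,
        fun h => hz (h ▸ mem_irreducibleComponent)⟩ mem_irreducibleComponent
    obtain ⟨E, hE, hpE⟩ := Set.mem_iUnion₂.1 (hsub hp')
    exact ⟨E, hE.1, hE.2, hpE⟩

theorem generic_notMem [NoetherianSpace X] (hC : C ∈ irreducibleComponents (X : Type u)) :
    hC.1.genericPoint ∉ closure Cᶜ := fun h => by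
  have hη := hC.1.isGenericPoint_genericPoint (isClosed_of_mem_irreducibleComponents C hC)
  obtain ⟨-, E, hE, hne, hηE⟩ := (meetPts_eq hC).ge ⟨hη.mem, h⟩
  have hCE : C ⊆ E := hη.def ▸ closure_minimal (Set.singleton_subset_iff.2 hηE)
    (isClosed_of_mem_irreducibleComponents E hE)
  exact hne (subset_antisymm (hC.2 hE.1 hCE) hCE)

/-- The scheme-theoretic meet is reduced. -/
theorem sup_eq [IsAlgClosed k] (hdim : topologicalKrullDim X ≤ 1) (hX : Curv2.AtWorstNodal k X)
    (hC : C ∈ irreducibleComponents (X : Type u)) :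
    Scheme.IdealSheafData.vanishingIdeal ⟨C, isClosed_of_mem_irreducibleComponents C hC⟩ ⊔
      Scheme.IdealSheafData.vanishingIdeal ⟨closure Cᶜ, isClosed_closure⟩ =
    Scheme.IdealSheafData.vanishingIdeal
      ⟨C ∩ closure Cᶜ, (isClosed_of_mem_irreducibleComponents C hC).inter isClosed_closure⟩ := by
  haveI := Node.AtWorst.isReduced k X hX
  haveI := Curves.GlobalSections.isNoetherian_of_proper k X
  have hCc := isClosed_of_mem_irreducibleComponents C hC
  let J := Scheme.IdealSheafData.vanishingIdeal ⟨C, hCc⟩ ⊔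
      Scheme.IdealSheafData.vanishingIdeal ⟨closure Cᶜ, isClosed_closure⟩
  have hsupp : J.support = ⟨C ∩ closure Cᶜ, hCc.inter isClosed_closure⟩ := by
    apply SetLike.coe_injective
    simp only [J, Scheme.IdealSheafData.support_sup, Closeds.coe_inf,
      Scheme.IdealSheafData.coe_support_vanishingIdeal]
    rfl
  rw [← hsupp, Scheme.IdealSheafData.vanishingIdeal_support]
  refine le_antisymm J.le_radical (fun U => ?_)
  rw [Scheme.IdealSheafData.radical_ideal]
  show _ ≤ J.ideal U
  simp only [J, Scheme.IdealSheafData.ideal_sup, Pi.sup_apply, Scheme.IdealSheafData.vanishingIdeal_ideal]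
  haveI : IsNoetherianRing Γ(X, U.1) := IsLocallyNoetherian.component_noetherian U
  let φ := U.2.fromSpec
  haveI := U.2.isOpenImmersion_fromSpec
  have hφo := U.2.fromSpec.isOpenEmbedding
  have hSC : IsClosed (φ ⁻¹' C) := hCc.preimage φ.continuous
  have hSW : IsClosed (φ ⁻¹' closure Cᶜ) := isClosed_closure.preimage φ.continuous
  have hzl : ∀ {S : Set (PrimeSpectrum Γ(X, U.1))}, IsClosed S → ∀ z : PrimeSpectrum Γ(X, U.1),
      PrimeSpectrum.vanishingIdeal S ≤ z.asIdeal → z ∈ S := fun {S} hS z hz => by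
    have h1 : z ∈ PrimeSpectrum.zeroLocus (PrimeSpectrum.vanishingIdeal S : Set Γ(X, U.1)) :=
      (PrimeSpectrum.mem_zeroLocus _ _).2 (by exact_mod_cast hz)
    rw [PrimeSpectrum.zeroLocus_vanishingIdeal_eq_closure, hS.closure_eq] at h1
    exact h1
  refine Alg.radical_sup_le (fun p hp q hq => Alg.eq_zero_of_forall fun 𝔭 h => ?_)
    (fun 𝔭 h hle => ?_) (fun a ha => ?_) (fun a ha => ?_) (fun m hm hle => ?_)
  · haveI := Ideal.IsMinimalPrime.isPrime h
    let z : PrimeSpectrum Γ(X, U.1) := ⟨𝔭, inferInstance⟩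
    by_cases hz : φ z ∈ C
    · exact 𝔭.mul_mem_right _ ((PrimeSpectrum.mem_vanishingIdeal _ _).1 hp z hz)
    · exact 𝔭.mul_mem_left _ ((PrimeSpectrum.mem_vanishingIdeal _ _).1 hq z (subset_closure hz))
  · haveI := Ideal.IsMinimalPrime.isPrime h
    let z : PrimeSpectrum Γ(X, U.1) := ⟨𝔭, inferInstance⟩
    have h1 : φ z ∈ C := hzl hSC z (le_sup_left.trans hle)
    have h2 : φ z ∈ closure Cᶜ := hzl hSW z (le_sup_right.trans hle)
    have hη := hC.1.isGenericPoint_genericPoint hCc
    have hsp : hC.1.genericPoint ⤳ φ z := hη.specializes h1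
    obtain ⟨η₀, hη₀⟩ : hC.1.genericPoint ∈ Set.range φ :=
      hsp.mem_open hφo.isOpen_range ⟨z, rfl⟩
    rw [← hη₀] at hsp
    have hle' : η₀.asIdeal ≤ 𝔭 :=
      (PrimeSpectrum.le_iff_specializes η₀ z).2 (hφo.isInducing.specializes_iff.1 hsp)
    have heq : η₀ = z := PrimeSpectrum.ext (le_antisymm hle' (h.2 ⟨η₀.2, bot_le⟩ hle'))
    exact generic_notMem hC (by rw [← hη₀, heq]; exact h2)
  · rw [PrimeSpectrum.mem_vanishingIdeal]
    intro z hz
    have hη := hC.1.isGenericPoint_genericPoint hCc
    have hsp : hC.1.genericPoint ⤳ φ z := hη.specializes hz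
    obtain ⟨η₀, hη₀⟩ : hC.1.genericPoint ∈ Set.range φ :=
      hsp.mem_open hφo.isOpen_range ⟨z, rfl⟩
    rw [← hη₀] at hsp
    have hle' : η₀.asIdeal ≤ z.asIdeal :=
      (PrimeSpectrum.le_iff_specializes η₀ z).2 (hφo.isInducing.specializes_iff.1 hsp)
    refine hle' (by_contra fun hac => generic_notMem hC ?_)
    rw [← hη₀]
    exact hzl hSW η₀ fun q hq => (η₀.2.mem_or_mem (show a * q ∈ η₀.asIdeal by
      rw [ha q hq]; exact η₀.asIdeal.zero_mem)).resolve_left hac
  · rw [PrimeSpectrum.mem_vanishingIdeal]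
    intro z hz
    have h1 : z ∈ closure (φ ⁻¹' Cᶜ) := by
      rwa [← hφo.isOpenMap.preimage_closure_eq_closure_preimage φ.continuous]
    refine (closure_minimal (fun w hw => ?_) (PrimeSpectrum.isClosed_zeroLocus {a}) h1 :
      z ∈ PrimeSpectrum.zeroLocus ({a} : Set Γ(X, U.1))) rfl
    intro b hb
    rw [Set.mem_singleton_iff.1 hb]
    refine by_contra fun hac => hw (hzl hSC w fun p hp => (w.2.mem_or_mem (show a * p ∈ w.asIdeal by
      rw [ha p hp]; exact w.asIdeal.zero_mem)).resolve_left hac)
  · haveI := hm.isPrime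
    let z : PrimeSpectrum Γ(X, U.1) := ⟨m, inferInstance⟩
    have hy : φ z ∈ U.1 := U.2.range_fromSpec.le ⟨z, rfl⟩
    letI : Algebra Γ(X, U.1) (X.presheaf.stalk (φ z)) :=
      TopCat.Presheaf.algebra_section_stalk X.presheaf ⟨φ z, hy⟩
    refine ⟨X.presheaf.stalk (φ z), inferInstance, inferInstance, inferInstance,
      U.2.isLocalization_stalk' z hy, ?_⟩
    rcases Node.AtWorst.smooth_or_node k X hdim hX (φ z) with hs | hn
    · haveI := Node.AtWorst.regular_of_smooth k X hs
      exact Or.inl (Regular.Quotient.isDomain (X.presheaf.stalk (φ z)))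
    · exact Or.inr (Curves.NormGenus.deltaInv_node k X hn)

end Groth.Agent.H10.StableTail.Geom
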